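import Mathlib
import Cfsg.Agent.Lib.Suz2.Abelian
import Cfsg.Agent.Lib.Suz2S.Field

/-! Coordinates for an automorphism acting on the involutions as a scalar of large order. -/

set_option autoImplicit false

namespace CfsgLib.Suz2

open Subgroup CfsgLib.PGroup CfsgLib.Suz2S
open scoped commutatorElement

variable {P : Type*} [Group P]

/-- field coordinates on the section `X / Y`, the automorphism acting as a scalar of order `N` -/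
structure Crd (a : MulAut P) (N : ℕ) (F : Type*) [Field F] (X Y : Subgroup P) where
  c : P → F
  lam : F
  le : Y ≤ X
  inv : SInv a X
  ord : orderOf lam = N
  add : ∀ x ∈ X, ∀ y ∈ X, c (x * y) = c x + c y
  ker : ∀ x ∈ X, c x = 0 ↔ x ∈ Y
  surj : ∀ t, ∃ x ∈ X, c x = t
  act : ∀ x ∈ X, c (a x) = lam * c x

/-- the standing hypotheses -/
structure Sup (a : MulAut P) (N : ℕ) (F : Type*) [Field F] : Prop where
  pg : IsPGroup 2 P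
  cen : ∀ x : P, x * x = 1 → x ∈ center P
  odd : Odd (orderOf a)
  fw : FW F N
  om : Nonempty (Crd a N F (Om P) ⊥)

variable {a : MulAut P} {N : ℕ} {F : Type*} [Field F]

namespace Crd

variable {X Y : Subgroup P} (κ : Crd a N F X Y)

theorem c_of_mem {y : P} (hy : y ∈ Y) : κ.c y = 0 := (κ.ker y (κ.le hy)).2 hy

theorem c_one : κ.c 1 = 0 := κ.c_of_mem Y.one_mem

theorem c_inv [CharP F 2] {x : P} (hx : x ∈ X) : κ.c x⁻¹ = κ.c x := by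
  rw [← CharTwo.neg_eq (κ.c x), eq_neg_iff_add_eq_zero, ← κ.add _ (X.inv_mem hx) _ hx,
    inv_mul_cancel, κ.c_one]

theorem c_pow (n : ℕ) {x : P} (hx : x ∈ X) : κ.c ((a ^ n) x) = κ.lam ^ n * κ.c x := by
  induction n with
  | zero => simp
  | succ n ih => rw [pow_succ', MulAut.mul_apply, κ.act _ (κ.inv.pow n x hx), ih]; ring

theorem inv_mul_mem {x y : P} (hx : x ∈ X) (hy : y ∈ X) (e : κ.c x = κ.c y) : x⁻¹ * y ∈ Y := by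
  rw [← κ.ker _ (X.mul_mem (X.inv_mem hx) hy), κ.add _ (X.inv_mem hx) _ hy, ← e,
    ← κ.add _ (X.inv_mem hx) _ hx, inv_mul_cancel, κ.c_one]

include κ in
theorem not_le : ¬ X ≤ Y := fun h => by
  obtain ⟨x, hx, h1⟩ := κ.surj 1
  rw [κ.c_of_mem (h hx)] at h1
  exact zero_ne_one h1

theorem exists_of_not_le [Finite F] [CharP F 2] (h : FW F N) {W : Subgroup P} (hW : SInv a W)
    (hWX : W ≤ X) (hn : ¬ W ≤ Y) (t : F) : ∃ w ∈ W, κ.c w = t := by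
  obtain ⟨w, hw, hwY⟩ := SetLike.not_le_iff_exists.1 hn
  have h0 : κ.c w ≠ 0 := fun e => hwY ((κ.ker w (hWX hw)).1 e)
  let U : AddSubgroup F :=
    { carrier := {t | ∃ w ∈ W, κ.c w = t}
      zero_mem' := ⟨1, W.one_mem, κ.c_one⟩
      add_mem' := by
        rintro _ _ ⟨x, hx, rfl⟩ ⟨y, hy, rfl⟩
        exact ⟨x * y, W.mul_mem hx hy, κ.add _ (hWX hx) _ (hWX hy)⟩
      neg_mem' := by
        rintro _ ⟨x, hx, rfl⟩
        exact ⟨x, hx, (CharTwo.neg_eq _).symm⟩ }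
  exact h.irr κ.ord U (by
    rintro _ ⟨x, hx, rfl⟩
    exact ⟨a x, hW x hx, κ.act x (hWX hx)⟩) ⟨w, hw, rfl⟩ h0 t

include κ in
theorem sq_mem [CharP F 2] {x : P} (hx : x ∈ X) : x * x ∈ Y := by
  rw [← κ.ker _ (X.mul_mem hx hx), κ.add x hx x hx, CharTwo.add_self_eq_zero]

include κ in
theorem comm_mem [CharP F 2] {x y : P} (hx : x ∈ X) (hy : y ∈ X) : ⁅x, y⁆ ∈ Y := by
  have h1 := X.mul_mem hx hy
  have h2 := X.mul_mem h1 (X.inv_mem hx)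
  rw [commutatorElement_def, ← κ.ker _ (X.mul_mem h2 (X.inv_mem hy)), κ.add _ h2 _ (X.inv_mem hy),
    κ.add _ h1 _ (X.inv_mem hx), κ.add _ hx _ hy, κ.c_inv hx, κ.c_inv hy]
  linear_combination (κ.c x + κ.c y) * (CharTwo.two_eq_zero : (2 : F) = 0)

/-- a set-theoretic section of the coordinate map -/
noncomputable def sec (t : F) : P := (κ.surj t).choose

theorem sec_mem (t : F) : κ.sec t ∈ X := (κ.surj t).choose_spec.1

theorem c_sec (t : F) : κ.c (κ.sec t) = t := (κ.surj t).choose_spec.2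

/-- transport along equalities -/
def cast {X' Y' : Subgroup P} (hX : X = X') (hY : Y = Y') : Crd a N F X' Y' where
  c := κ.c
  lam := κ.lam
  le := hX ▸ hY ▸ κ.le
  inv := hX ▸ κ.inv
  ord := κ.ord
  add := hX ▸ κ.add
  ker := hX ▸ hY ▸ κ.ker
  surj := hX ▸ κ.surj
  act := hX ▸ κ.act

end Crd

theorem exists_biaddS {X₁ Y₁ X₂ Y₂ : Subgroup P} (κ₁ : Crd a N F X₁ Y₁) (κ₂ : Crd a N F X₂ Y₂)
    (g : P → P → F) (h₁ : ∀ x ∈ X₁, ∀ x' ∈ X₁, ∀ y ∈ X₂, g (x * x') y = g x y + g x' y)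
    (h₂ : ∀ x ∈ X₁, ∀ y ∈ X₂, ∀ y' ∈ X₂, g x (y * y') = g x y + g x y')
    (h₃ : ∀ x ∈ Y₁, ∀ y ∈ X₂, g x y = 0) (h₄ : ∀ x ∈ X₁, ∀ y ∈ Y₂, g x y = 0) :
    ∃ B : F →+ F →+ F, ∀ x ∈ X₁, ∀ y ∈ X₂, B (κ₁.c x) (κ₂.c y) = g x y := by
  have e₁ : ∀ x ∈ X₁, ∀ x' ∈ X₁, ∀ y ∈ X₂, κ₁.c x = κ₁.c x' → g x y = g x' y := by
    intro x hx x' hx' y hy e
    have := κ₁.inv_mul_mem hx hx' e
    rw [← mul_inv_cancel_left x x', h₁ x hx _ (κ₁.le this) y hy, h₃ _ this y hy, add_zero]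
  have e₂ : ∀ x ∈ X₁, ∀ y ∈ X₂, ∀ y' ∈ X₂, κ₂.c y = κ₂.c y' → g x y = g x y' := by
    intro x hx y hy y' hy' e
    have := κ₂.inv_mul_mem hy hy' e
    rw [← mul_inv_cancel_left y y', h₂ x hx y hy _ (κ₂.le this), h₄ x hx _ this, add_zero]
  refine ⟨AddMonoidHom.mk' (fun s => AddMonoidHom.mk' (fun t => g (κ₁.sec s) (κ₂.sec t)) ?_) ?_, ?_⟩
  · intro t t'
    rw [← h₂ _ (κ₁.sec_mem s) _ (κ₂.sec_mem t) _ (κ₂.sec_mem t')]
    refine e₂ _ (κ₁.sec_mem s) _ (κ₂.sec_mem _) _ (X₂.mul_mem (κ₂.sec_mem t) (κ₂.sec_mem t')) ?_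
    rw [κ₂.add _ (κ₂.sec_mem t) _ (κ₂.sec_mem t'), κ₂.c_sec, κ₂.c_sec, κ₂.c_sec]
  · intro s s'
    ext t
    change g _ _ = g _ _ + g _ _
    rw [← h₁ _ (κ₁.sec_mem s) _ (κ₁.sec_mem s') _ (κ₂.sec_mem t)]
    refine e₁ _ (κ₁.sec_mem _) _ (X₁.mul_mem (κ₁.sec_mem s) (κ₁.sec_mem s')) _ (κ₂.sec_mem t) ?_
    rw [κ₁.add _ (κ₁.sec_mem s) _ (κ₁.sec_mem s'), κ₁.c_sec, κ₁.c_sec, κ₁.c_sec]
  · intro x hx y hy
    change g _ _ = _
    rw [e₁ _ (κ₁.sec_mem _) x hx _ (κ₂.sec_mem _) (κ₁.c_sec _),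
      e₂ x hx _ (κ₂.sec_mem _) y hy (κ₂.c_sec _)]

/-- the commutator map between two sections with values in a central section -/
theorem comm_biaddS {X₁ Y₁ X₂ Y₂ X₃ Y₃ : Subgroup P} (κ₁ : Crd a N F X₁ Y₁) (κ₂ : Crd a N F X₂ Y₂)
    (κ₃ : Crd a N F X₃ Y₃) (h₀ : ∀ g : P, ∀ z ∈ X₃, ⁅g, z⁆ ∈ Y₃) (h₁ : ∀ x ∈ X₁, ∀ y ∈ X₂, ⁅x, y⁆ ∈ X₃)
    (h₃ : ∀ x ∈ Y₁, ∀ y ∈ X₂, ⁅x, y⁆ ∈ Y₃) (h₄ : ∀ x ∈ X₁, ∀ y ∈ Y₂, ⁅x, y⁆ ∈ Y₃) :
    ∃ B : F →+ F →+ F, (∀ x ∈ X₁, ∀ y ∈ X₂, B (κ₁.c x) (κ₂.c y) = κ₃.c ⁅x, y⁆) ∧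
      ∀ s t, B (κ₁.lam * s) (κ₂.lam * t) = κ₃.lam * B s t := by
  have hc : ∀ g, ∀ z ∈ X₃, ∀ w ∈ X₃, κ₃.c (g * z * g⁻¹ * w) = κ₃.c z + κ₃.c w := by
    intro g z hz w hw
    have e : g * z * g⁻¹ * w = ⁅g, z⁆ * (z * w) := by group
    rw [e, κ₃.add _ (κ₃.le (h₀ g z hz)) _ (X₃.mul_mem hz hw), κ₃.c_of_mem (h₀ g z hz), zero_add,
      κ₃.add _ hz _ hw]
  obtain ⟨B, hB⟩ := exists_biaddS κ₁ κ₂ (fun x y => κ₃.c ⁅x, y⁆)
    (fun x hx x' hx' y hy => by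
      have e : ⁅x * x', y⁆ = x * ⁅x', y⁆ * x⁻¹ * ⁅x, y⁆ := by group
      rw [e, hc _ _ (h₁ x' hx' y hy) _ (h₁ x hx y hy), add_comm])
    (fun x hx y hy y' hy' => by
      have e : ⁅x, y * y'⁆ = ⁅x, y⁆ * (y * ⁅x, y'⁆ * y⁻¹ * 1) := by group
      have h5 : y * ⁅x, y'⁆ * y⁻¹ * 1 ∈ X₃ := by
        have e' : y * ⁅x, y'⁆ * y⁻¹ * 1 = ⁅y, ⁅x, y'⁆⁆ * ⁅x, y'⁆ := by group
        rw [e']
        exact X₃.mul_mem (κ₃.le (h₀ _ _ (h₁ x hx y' hy'))) (h₁ x hx y' hy')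
      rw [e, κ₃.add _ (h₁ x hx y hy) _ h5, hc _ _ (h₁ x hx y' hy') _ X₃.one_mem, κ₃.c_one, add_zero])
    (fun x hx y hy => κ₃.c_of_mem (h₃ x hx y hy)) (fun x hx y hy => κ₃.c_of_mem (h₄ x hx y hy))
  refine ⟨B, hB, fun s t => ?_⟩
  obtain ⟨x, hx, rfl⟩ := κ₁.surj s
  obtain ⟨y, hy, rfl⟩ := κ₂.surj t
  rw [← κ₁.act x hx, ← κ₂.act y hy, hB _ (κ₁.inv x hx) _ (κ₂.inv y hy), hB x hx y hy,
    ← κ₃.act _ (h₁ x hx y hy), map_commutatorElement]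

theorem Sup.mem_Om (h : Sup a N F) {x : P} : x ∈ Om P ↔ x * x = 1 :=
  ⟨fun hx => hx.2, fun hx => ⟨h.cen x hx, hx⟩⟩

theorem Sup.Om_ne_bot (h : Sup a N F) : Om P ≠ ⊥ := by
  obtain ⟨ω⟩ := h.om
  exact fun e => ω.not_le e.le

variable [Finite F] [CharP F 2]

theorem Sup.Om_le (h : Sup a N F) {X : Subgroup P} (hX : SInv a X) (hne : X ≠ ⊥) : Om P ≤ X := by
  obtain ⟨ω⟩ := h.om
  obtain ⟨x, hx, hx1⟩ := (X.bot_or_exists_ne_one).resolve_left hne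
  obtain ⟨j, h2, h3⟩ := exists_involution h.pg hx1
  intro y hy
  obtain ⟨w, hw, e⟩ := ω.exists_of_not_le h.fw (hX.inf (sInv_Om a)) inf_le_right
    (fun e => h2 (mem_bot.1 (e ⟨X.pow_mem hx _, h.mem_Om.2 h3⟩))) (ω.c y)
  rw [← inv_mul_eq_one.1 (mem_bot.1 (ω.inv_mul_mem hw.2 hy e))]
  exact hw.1

/-- coordinates on `A / A²` from coordinates on `A² / A⁴` -/
def Crd.ofSq (h : Sup a N F) {A : Subgroup P} (hA : AbN a A)
    (κ : Crd a N F (sqS A) (sqS (sqS A))) : Crd a N F A (sqS A) where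
  c x := κ.c (x * x)
  lam := κ.lam
  le := sqS_le A
  inv := hA.inv
  ord := κ.ord
  add x hx y hy := by rw [hA.sq_mul hx hy, κ.add _ (sq_mem_sqS hx) _ (sq_mem_sqS hy)]
  ker x hx := by
    rw [κ.ker _ (sq_mem_sqS hx)]
    refine ⟨fun h1 => ?_, sq_mem_sqS⟩
    obtain ⟨y, hy, e⟩ := hA.sqS.mem_sqS.1 h1
    have h2 : sqS A ≠ ⊥ := fun e => κ.not_le (e.le.trans bot_le)
    have h3 : x * y⁻¹ ∈ sqS A := h.Om_le hA.inv.sqS h2 (h.mem_Om.2 (by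
      rw [hA.sq_mul hx (A.inv_mem (sqS_le A hy)), ← e]; group))
    simpa using (sqS A).mul_mem h3 hy
  surj t := by
    obtain ⟨y, hy, rfl⟩ := κ.surj t
    obtain ⟨x, hx, rfl⟩ := hA.mem_sqS.1 hy
    exact ⟨x, hx, rfl⟩
  act x hx := by rw [← map_mul, κ.act _ (sq_mem_sqS hx)]

variable [Finite P]

theorem AbN.exists_coordS (h : Sup a N F) (ω : Crd a N F (Om P) ⊥) {A : Subgroup P} (hA : AbN a A)
    (hne : A ≠ ⊥) : ∃ κ : Crd a N F A (Suz2.sqS A), κ.lam = ω.lam := by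
  obtain ⟨k, hk⟩ : ∃ k : ℕ, ∀ x ∈ A, x ^ 2 ^ k = 1 :=
    (exists_pow_two_pow h.pg).imp fun _ hk x _ => hk x
  induction k generalizing A with
  | zero => exact absurd (eq_bot_iff.2 fun x hx => by simpa using hk x hx) hne
  | succ k ih =>
    by_cases h2 : Suz2.sqS A = ⊥
    · refine ⟨ω.cast (le_antisymm (h.Om_le hA.inv hne) fun x hx => h.mem_Om.2 ?_) h2.symm, rfl⟩
      exact mem_bot.1 (h2 ▸ sq_mem_sqS hx)
    · obtain ⟨κ, hκ⟩ := ih hA.sqS h2 (fun y hy => by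
        obtain ⟨x, hx, rfl⟩ := hA.mem_sqS.1 hy
        rw [← sq, ← pow_mul, ← pow_succ', hk x hx])
      exact ⟨κ.ofSq h hA, hκ⟩

/-- invariant subgroups of an abelian normal invariant subgroup -/
theorem AbN.eq_or_leS (h : Sup a N F) (ω : Crd a N F (Om P) ⊥) {A B : Subgroup P} (hA : AbN a A)
    (hB : SInv a B) (hBA : B ≤ A) : B = A ∨ B ≤ Suz2.sqS A := by
  refine or_iff_not_imp_right.2 fun hn => le_antisymm hBA fun x hx => ?_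
  obtain ⟨κ, -⟩ := hA.exists_coordS h ω (fun e => hn (hBA.trans (e.le.trans bot_le)))
  have key : ∀ j : ℕ, ∀ x ∈ A, ∃ b ∈ B, ∃ y ∈ A, x = b * y ^ 2 ^ j := by
    intro j
    induction j with
    | zero => exact fun x hx => ⟨1, B.one_mem, x, hx, by simp⟩
    | succ j ih =>
      intro x hx
      obtain ⟨b, hb, y, hy, rfl⟩ := ih x hx
      obtain ⟨w, hw, e⟩ := κ.exists_of_not_le h.fw hB hBA hn (κ.c y)
      obtain ⟨z, hz, e'⟩ := hA.mem_sqS.1 (κ.inv_mul_mem (hBA hw) hy e)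
      refine ⟨b * w ^ 2 ^ j, B.mul_mem hb (B.pow_mem hw _), z, hz, ?_⟩
      have hc : Commute w (z * z) := hA.ab w (hBA hw) _ (A.mul_mem hz hz)
      rw [mul_assoc, pow_succ', pow_mul, sq, ← hc.mul_pow, e', mul_inv_cancel_left]
  obtain ⟨k, hk⟩ := exists_pow_two_pow h.pg
  obtain ⟨b, hb, y, -, rfl⟩ := key k x hx
  rwa [hk, mul_one]

theorem AbN.comm_memS (h : Sup a N F) (ω : Crd a N F (Om P) ⊥) {A : Subgroup P} (hA : AbN a A) (g : P)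
    {z : P} (hz : z ∈ A) : ⁅g, z⁆ ∈ Suz2.sqS A := by
  have := hA.nl
  have := hA.sqS.nl
  by_cases hle : A ≤ Suz2.sqS A
  · exact hle ((commutator_le_right ⊤ A) (commutator_mem_commutator (mem_top g) hz))
  obtain ⟨x, hx, hx1, -, hc⟩ := exists_central_mod_pow_mem h.pg hle
  have hi : SInv a (A ⊓ commSub _ hA.sqS.nl Set.univ) := by
    refine fun y hy => ⟨hA.inv y hy.1, fun g _ => ?_⟩
    obtain ⟨g, rfl⟩ := a.surjective g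
    rw [← map_commutatorElement]
    exact hA.sqS.inv _ (hy.2 g trivial)
  rcases hA.eq_or_leS h ω hi inf_le_left with e | e
  · exact comm_swap ((e.ge hz).2 g trivial)
  · exact absurd (e ⟨hx, fun g _ => hc g⟩) hx1

/-- an element with square in `A²` acting trivially on `A / A⁴` lies in `A` -/
theorem AbN.mem_of_commS (h : Sup a N F) {A : Subgroup P} (hA : AbN a A) (hne : A ≠ ⊥) {u : P}
    (hu : u * u ∈ Suz2.sqS A) (hc : ∀ x ∈ A, ⁅u, x⁆ ∈ Suz2.sqS (Suz2.sqS A)) : u ∈ A := by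
  have key : ∀ j : ℕ, ∃ b ∈ A, ∃ c ∈ A, b * u * (b * u) = c ^ 2 ^ (j + 1) := by
    intro j
    induction j with
    | zero =>
      obtain ⟨c, hc, e⟩ := hA.mem_sqS.1 hu
      exact ⟨1, A.one_mem, c, hc, by simp [← e, sq]⟩
    | succ j ih =>
      obtain ⟨b, hb, c, hcA, e⟩ := ih
      obtain ⟨y, hy, e1⟩ := hA.sqS.mem_sqS.1 (hc c hcA)
      obtain ⟨d, hd, rfl⟩ := hA.mem_sqS.1 hy
      have e2 : u * c * u⁻¹ = d ^ 4 * c := by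
        rw [← mul_inv_eq_iff_eq_mul, ← commutatorElement_def, ← e1]
        simp only [pow_succ, pow_zero, one_mul, mul_assoc]
      have hdc : Commute (d ^ 4) c := hA.ab _ (A.pow_mem hd _) c hcA
      have e3 : u * (c ^ 2 ^ j)⁻¹ * u⁻¹ = ((d ^ 4) ^ 2 ^ j * c ^ 2 ^ j)⁻¹ := by
        rw [← hdc.mul_pow, ← e2, conj_pow]; group
      have hs : c ^ 2 ^ j ∈ A := A.pow_mem hcA _
      have ht : (d ^ 4) ^ 2 ^ j ∈ A := A.pow_mem (A.pow_mem hd _) _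
      refine ⟨(c ^ 2 ^ j)⁻¹ * b, A.mul_mem (A.inv_mem hs) hb, d⁻¹, A.inv_mem hd, ?_⟩
      have e4 : (c ^ 2 ^ j)⁻¹ * b * u * ((c ^ 2 ^ j)⁻¹ * b * u) =
          (c ^ 2 ^ j)⁻¹ * (b * (u * (c ^ 2 ^ j)⁻¹ * u⁻¹) * b⁻¹) * (b * u * (b * u)) := by group
      rw [e4, e3, e, hA.ab b hb _ (A.inv_mem (A.mul_mem ht hs)), mul_inv_cancel_right, pow_succ 2 j,
        pow_mul c, sq, mul_inv_rev, ← mul_assoc _ (c ^ 2 ^ j)⁻¹, ← mul_inv_rev,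
        hA.ab _ (A.inv_mem (A.mul_mem hs hs)) _ (A.inv_mem ht), inv_mul_cancel_right, ← pow_mul,
        inv_pow]
      congr 2
      ring
  obtain ⟨k, hk⟩ := exists_pow_two_pow h.pg
  obtain ⟨b, hb, c, -, e⟩ := key k
  rw [pow_succ', pow_mul, hk] at e
  simpa using A.mul_mem (A.inv_mem hb) (h.Om_le hA.inv hne (h.mem_Om.2 e))

end CfsgLib.Suz2
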