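import Mathlib
import Cfsg.Agent.Lib.Suz2.SAbel

/-! Chief factors above an abelian normal invariant subgroup, for scalars of large order. -/

set_option autoImplicit false

namespace CfsgLib.Suz2

open Subgroup CfsgLib.PGroup CfsgLib.Suz2S
open scoped commutatorElement

variable {P : Type*} [Group P] {a : MulAut P} {N : ℕ} {F : Type*} [Field F] [CharP F 2]

/-- the squaring map of a section with values in a central section -/
theorem exists_quadS {C A A' : Subgroup P} (κ : Crd a N F C A) (κ₁ : Crd a N F A A')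
    (h₀ : ∀ g : P, ∀ z ∈ A, ⁅g, z⁆ ∈ A') :
    ∃ (S : F → F) (B : F →+ F →+ F), (∀ u ∈ C, S (κ.c u) = κ₁.c (u * u)) ∧
      (∀ x, S (κ.lam * x) = κ₁.lam * S x) ∧ (∀ u ∈ C, ∀ v ∈ C, B (κ.c u) (κ.c v) = κ₁.c ⁅u, v⁆) ∧
      (∀ x y, B (κ.lam * x) (κ.lam * y) = κ₁.lam * B x y) ∧ ∀ x y, S (x + y) = S x + S y + B x y := by
  obtain ⟨B, hB, hw⟩ := comm_biaddS κ κ κ₁ h₀ (fun x hx y hy => κ.comm_mem hx hy)
    (fun x hx y _ => comm_swap (h₀ y x hx)) (fun x _ y hy => h₀ x y hy)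
  have hm : ∀ u ∈ C, ∀ v ∈ C, κ₁.c (u * v * (u * v)) =
      κ₁.c (u * u) + κ₁.c (v * v) + B (κ.c u) (κ.c v) := by
    intro u hu v hv
    have e : u * v * (u * v) = u * u * (⁅u⁻¹, v⁆ * (v * v)) := by group
    have h1 := κ.comm_mem (C.inv_mem hu) hv
    rw [e, κ₁.add _ (κ.sq_mem hu) _ (A.mul_mem h1 (κ.sq_mem hv)), κ₁.add _ h1 _ (κ.sq_mem hv),
      ← hB _ (C.inv_mem hu) _ hv, κ.c_inv hu]
    ring
  have hS : ∀ u ∈ C, κ₁.c (κ.sec (κ.c u) * κ.sec (κ.c u)) = κ₁.c (u * u) := by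
    intro u hu
    have h1 := κ.inv_mul_mem hu (κ.sec_mem _) (κ.c_sec _).symm
    rw [← mul_inv_cancel_left u (κ.sec (κ.c u)), hm u hu _ (κ.le h1), κ.c_of_mem h1, map_zero,
      κ₁.c_of_mem (κ₁.sq_mem h1), add_zero, add_zero]
  refine ⟨fun t => κ₁.c (κ.sec t * κ.sec t), B, hS, fun x => ?_, hB, hw, fun x y => ?_⟩
  · obtain ⟨u, hu, rfl⟩ := κ.surj x
    beta_reduce
    rw [← κ.act u hu, hS _ (κ.inv u hu), hS u hu, ← map_mul, κ₁.act _ (κ.sq_mem hu)]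
  · obtain ⟨u, hu, rfl⟩ := κ.surj x
    obtain ⟨v, hv, rfl⟩ := κ.surj y
    beta_reduce
    rw [← κ.add u hu v hv, hS _ (C.mul_mem hu hv), hS u hu, hS v hv, hm u hu v hv]

variable [Finite P] [Finite F]

/-- if all squares of the chief factor lie in `A²` then `A` has exponent at most four -/
theorem AbN.case_oneS (h : Sup a N F) (ω : Crd a N F (Om P) ⊥) {A C : Subgroup P} (hA : AbN a A)
    (hne : A ≠ ⊥) (κ : Crd a N F C A) (hsq : ∀ u ∈ C, u * u ∈ Suz2.sqS A) :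
    Suz2.sqS (Suz2.sqS A) = ⊥ := by
  by_contra h4
  obtain ⟨κ₂, -⟩ := hA.sqS.exists_coordS h ω (fun e => h4 (eq_bot_iff.2 ((sqS_le _).trans e.le)))
  let κ₁ := κ₂.ofSq h hA
  obtain ⟨B, hB, hw⟩ := comm_biaddS κ κ₁ κ₂ (fun g z hz => hA.sqS.comm_memS h ω g hz)
    (fun x _ y hy => hA.comm_memS h ω x hy)
    (fun x hx y hy => by rw [hA.comm_eq_one hx hy]; exact one_mem _)
    (fun x _ y hy => hA.sqS.comm_memS h ω x hy)
  refine h.fw.no_idem κ.ord κ₂.ord B hw (fun s t => ?_) ?_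
  · obtain ⟨u, hu, rfl⟩ := κ.surj s
    obtain ⟨x, hx, rfl⟩ := κ₁.surj t
    obtain ⟨b, hb, e⟩ := hA.mem_sqS.1 (hA.comm_memS h ω u hx)
    obtain ⟨d, hd, e'⟩ := hA.mem_sqS.1 (hA.comm_memS h ω u hb)
    have h1 : B (κ.c u) (κ₁.c x) = κ₁.c b := by rw [hB u hu x hx, ← e]; rfl
    have h2 : B (κ.c u) (κ₁.c b) = κ₁.c d := by rw [hB u hu b hb, ← e']; rfl
    have h3 := comm_sq u x
    have e3 : ⁅u, b * b⁆ = ⁅u, b⁆ * (b * ⁅u, b⁆ * b⁻¹) := by group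
    rw [hA.comm_eq_one (κ.sq_mem hu) hx, ← e, e3, ← e', hA.ab b hb _ (A.mul_mem hd hd),
      mul_inv_cancel_right, ← hA.sq_mul (A.mul_mem hd hd) (A.mul_mem hb hb), ← hA.sq_mul hd hb] at h3
    have h5 : κ₁.c (d * b) = 0 :=
      κ₂.c_of_mem (h.Om_le hA.sqS.sqS.inv h4 (h.mem_Om.2 h3.symm))
    rw [κ₁.add d hd b hb, CharTwo.add_eq_zero] at h5
    rw [h1, h2, h5]
  · obtain ⟨u, hu, e⟩ := κ.surj 1
    have hs : κ.c u ≠ 0 := by rw [e]; exact one_ne_zero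
    rw [← e]
    by_contra hz
    push Not at hz
    refine hs (κ.c_of_mem (hA.mem_of_commS h hne (hsq u hu) fun x hx => ?_))
    rw [← κ₂.ker _ (hA.comm_memS h ω u hx), ← hB u hu x hx, hz]

/-- if the squares of a nonabelian chief factor generate `A` then `A` is elementary abelian -/
theorem AbN.case_twoS (h : Sup a N F) (ω : Crd a N F (Om P) ⊥) {A C : Subgroup P} (hA : AbN a A)
    (hC : C.Normal) (κ : Crd a N F C A) (hnab : ∃ x ∈ C, ∃ y ∈ C, x * y ≠ y * x)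
    (hsq : ∃ u ∈ C, u * u ∉ Suz2.sqS A) : Suz2.sqS A = ⊥ := by
  by_contra hs
  obtain ⟨κ₂, hκ₂⟩ := hA.sqS.exists_coordS h ω hs
  let κ₁ := κ₂.ofSq h hA
  obtain ⟨S, B, hS, hSw, hB, hBw, hSB⟩ := exists_quadS κ κ₁ (fun g z hz => hA.comm_memS h ω g hz)
  have hDA : ⁅C, C⁆ ≤ A := commutator_le.2 fun x hx y hy => κ.comm_mem hx hy
  have hS0 : ∃ u ∈ C, κ.c u ≠ 0 ∧ S (κ.c u) ≠ 0 := by
    obtain ⟨u, hu, hu'⟩ := hsq
    refine ⟨u, hu, fun e => hu' (sq_mem_sqS ((κ.ker u hu).1 e)), fun e => hu' ?_⟩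
    rw [hS u hu] at e
    exact (κ₁.ker _ (κ.sq_mem hu)).1 e
  by_cases hB0 : ∃ x y, B x y ≠ 0
  · obtain ⟨T, hT, hTw⟩ := comm_biaddS κ₁ κ κ₂ (fun g z hz => hA.sqS.comm_memS h ω g hz)
      (fun x hx y _ => comm_swap (hA.comm_memS h ω y hx))
      (fun x hx y _ => comm_swap (hA.sqS.comm_memS h ω y hx))
      (fun x hx y hy => by rw [hA.comm_eq_one hx hy]; exact one_mem _)
    have hT0 : ∀ x y, T x y = 0 := by
      obtain ⟨u, hu, h1, h2⟩ := hS0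
      have e' : ⁅u * u, u⁆ = 1 := by group
      exact h.fw.mon_zero' κ.ord κ₂.ord T hTw h2 h1 (by
        rw [hS u hu, hT _ (κ.sq_mem hu) u hu, e', κ₂.c_one])
    have hc : ∀ x ∈ A, ∀ v ∈ C, ⁅x, v⁆ ∈ Suz2.sqS (Suz2.sqS A) := fun x hx v hv => by
      rw [← κ₂.ker _ (comm_swap (hA.comm_memS h ω v hx)), ← hT x hx v hv, hT0]
    obtain ⟨s, t, hst⟩ := hB0
    obtain ⟨u, hu, rfl⟩ := κ.surj s
    obtain ⟨v, hv, rfl⟩ := κ.surj t
    refine hst ((hB u hu v hv).trans (κ₂.c_of_mem ?_))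
    have h1 := hc _ (κ.sq_mem hu) v hv
    rw [comm_sq] at h1
    exact (mul_mem_cancel_left (comm_swap (hc _ (κ.comm_mem hu hv) u hu))).1 h1
  · push Not at hB0
    have hD : AbN a ⁅C, C⁆ := hA.of_le hDA inferInstance (κ.inv.commutator κ.inv)
    obtain ⟨x, hx, y, hy, hxy⟩ := hnab
    obtain ⟨κ₃, hκ₃⟩ := hD.exists_coordS h ω (fun e => hxy
      (commutatorElement_eq_one_iff_mul_comm.1 (mem_bot.1 (e ▸ commutator_mem_commutator hx hy))))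
    have hCA : Suz2.sqS C = A := by
      obtain ⟨u, hu, hu'⟩ := hsq
      exact (hA.eq_or_leS h ω κ.inv.sqS (sqS_le_iff.2 fun x hx => κ.sq_mem hx)).resolve_right
        fun e => hu' (e (sq_mem_sqS hu))
    have hc : A ≤ commSub _ hD.sqS.nl C := hCA ▸ sqS_le_iff.2 fun u hu v hv => by
      rw [comm_sq]
      exact mul_mem (hD.comm_memS h ω u (commutator_mem_commutator hu hv))
        (sq_mem_sqS (commutator_mem_commutator hu hv))
    obtain ⟨Γ, hΓ, hΓw⟩ := comm_biaddS κ κ κ₃ (fun g z hz => hD.comm_memS h ω g hz)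
      (fun x hx y hy => commutator_mem_commutator hx hy) (fun x hx y hy => hc hx y hy)
      (fun x hx y hy => comm_swap (hc hy x hx))
    have hΓ0 := h.fw.alt_zero κ.ord (AddMonoidHom.mk' S fun x y => by rw [hSB, hB0, add_zero])
      (z := κ₃.lam) (fun x => by rw [hκ₃, ← hκ₂]; exact hSw x) (by
        obtain ⟨u, -, -, h2⟩ := hS0
        exact ⟨_, h2⟩) Γ hΓw (by
        obtain ⟨u, hu, e⟩ := κ.surj 1
        rw [← e, hΓ u hu u hu, commutatorElement_self, κ₃.c_one])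
    refine κ₃.not_le (commutator_le.2 fun u hu v hv => ?_)
    rw [← κ₃.ker _ (commutator_mem_commutator hu hv), ← hΓ u hu v hv, hΓ0]

/-- two chief factors above `A` with squares in `A² ≠ 1` commute modulo `A²` -/
theorem AbN.comm_mem_of_sqS (h : Sup a N F) (ω : Crd a N F (Om P) ⊥) {A C D : Subgroup P}
    (hA : AbN a A) (hs : Suz2.sqS A ≠ ⊥) (κ : Crd a N F C A) (κ' : Crd a N F D A)
    (hC : ∀ u ∈ C, u * u ∈ Suz2.sqS A) (hD : ∀ u ∈ D, u * u ∈ Suz2.sqS A)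
    (hCD : ∀ x ∈ C, ∀ y ∈ D, ⁅x, y⁆ ∈ A) {x y : P} (hx : x ∈ C) (hy : y ∈ D) :
    ⁅x, y⁆ ∈ Suz2.sqS A := by
  obtain ⟨κ₂, -⟩ := hA.sqS.exists_coordS h ω hs
  let κ₁ := κ₂.ofSq h hA
  obtain ⟨B, hB, -⟩ := comm_biaddS κ κ' κ₁ (fun g z hz => hA.comm_memS h ω g hz) hCD
    (fun x hx y _ => comm_swap (hA.comm_memS h ω y hx)) (fun x _ y hy => hA.comm_memS h ω x hy)
  have key : ∀ {X : Subgroup P} (ξ : Crd a N F X A), (∀ u ∈ X, u * u ∈ Suz2.sqS A) →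
      ∃ η : F →+ F →+ F, (∀ s t, η (ξ.lam * s) (κ₂.lam * t) = κ₂.lam * η s t) ∧
        ∀ u ∈ X, ∀ v : P, ⁅u, v⁆ ∈ A → η (ξ.c u) (κ₁.c ⁅u, v⁆) = κ₁.c ⁅u, v⁆ := by
    intro X ξ hX
    obtain ⟨η, hη, hηw⟩ := comm_biaddS ξ κ₁ κ₂ (fun g z hz => hA.sqS.comm_memS h ω g hz)
      (fun x _ y hy => hA.comm_memS h ω x hy)
      (fun x hx y hy => by rw [hA.comm_eq_one hx hy]; exact one_mem _)
      (fun x _ y hy => hA.sqS.comm_memS h ω x hy)
    refine ⟨η, hηw, fun u hu v huv => ?_⟩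
    have h1 := κ₂.c_of_mem (comm_swap (hA.sqS.comm_memS h ω v (hX u hu)))
    rw [comm_sq, κ₂.add _ (hA.comm_memS h ω u huv) _ (sq_mem_sqS huv), CharTwo.add_eq_zero] at h1
    rw [hη u hu _ huv, h1]
    rfl
  obtain ⟨η, hηw, hη⟩ := key κ hC
  obtain ⟨η', hηw', hη'⟩ := key κ' hD
  rw [← κ₁.ker _ (hCD x hx y hy), ← hB x hx y hy]
  refine h.fw.fix_zero κ.ord κ'.ord κ₂.ord B η η' hηw hηw' (fun s t => ?_)
    (fun s t => ?_) _ _
  · obtain ⟨u, hu, rfl⟩ := κ.surj s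
    obtain ⟨v, hv, rfl⟩ := κ'.surj t
    rw [hB u hu v hv, hη u hu v (hCD u hu v hv)]
  · obtain ⟨u, hu, rfl⟩ := κ.surj s
    obtain ⟨v, hv, rfl⟩ := κ'.surj t
    rw [hB u hu v hv, ← κ₁.c_inv (hCD u hu v hv), commutatorElement_inv,
      hη' v hv u (comm_swap (hCD u hu v hv))]

end CfsgLib.Suz2
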