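import Mathlib
import Cfsg.Agent.Lib.Suz2.Main
import Cfsg.Agent.Lib.Suz2.SCases

/-! Chief factors have coordinates as soon as the automorphism has order `N`. -/

set_option autoImplicit false

namespace CfsgLib.Suz2

open Subgroup CfsgLib.PGroup CfsgLib.Suz2S
open scoped commutatorElement

variable {P : Type*} [Group P] {a : MulAut P} {N : ℕ} {F : Type*} [Field F]

theorem Sup.fpf (h : Sup a N F) {n : ℕ} (hn : ¬ N ∣ n) {x : P} (hx : (a ^ n) x = x) : x = 1 := by
  by_contra h1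
  obtain ⟨ω⟩ := h.om
  obtain ⟨j, h2, h3⟩ := exists_involution h.pg h1
  have h4 := h.mem_Om.2 h3
  have h5 := ω.c_pow n h4
  rw [map_pow, hx] at h5
  refine hn (ω.ord ▸ orderOf_dvd_of_pow_eq_one (mul_right_cancel₀ (fun e => h2 ?_)
    (h5.symm.trans (one_mul _).symm)))
  exact mem_bot.1 ((ω.ker _ h4).1 e)

variable [Finite P]

theorem Sup.fpf_mod (h : Sup a N F) {Y : Subgroup P} (hY : SInv a Y) {n : ℕ} (hn : ¬ N ∣ n)
    {x : P} (hx : x⁻¹ * (a ^ n) x ∈ Y) : x ∈ Y := by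
  let f : Y → Y := fun y => ⟨(y : P)⁻¹ * (a ^ n) y, Y.mul_mem (Y.inv_mem y.2) (hY.pow n _ y.2)⟩
  have key : ∀ u v : P, u⁻¹ * (a ^ n) u = v⁻¹ * (a ^ n) v → u = v := by
    intro u v e
    have := h.fpf hn (x := u * v⁻¹) (by
      rw [map_mul, map_inv, mul_inv_eq_iff_eq_mul, mul_assoc, ← e, mul_inv_cancel_left])
    exact mul_inv_eq_one.1 this
  have hf : Function.Injective f := fun u v e => Subtype.ext (key _ _ (congrArg Subtype.val e))
  obtain ⟨y, hy⟩ := Finite.injective_iff_surjective.1 hf ⟨_, hx⟩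
  rw [← key _ _ (congrArg Subtype.val hy)]
  exact y.2

theorem Sup.coord_aux (h : Sup a N F) (hN : a ^ N = 1) {X Y : Subgroup P} (hX : SInv a X) (hY : SInv a Y)
    (hYX : Y ≤ X) (hsq : ∀ x ∈ X, x * x ∈ Y)
    (hmin : ∀ W, SInv a W → Y ≤ W → W ≤ X → W = Y ∨ W = X) {K : Type*} [Field K] [Finite K]
    (c : P → K) (l : K) (add : ∀ x ∈ X, ∀ y ∈ X, c (x * y) = c x + c y)
    (ker : ∀ x ∈ X, c x = 0 ↔ x ∈ Y) (surj : ∀ t, ∃ x ∈ X, c x = t)
    (act : ∀ x ∈ X, c (a x) = l * c x) : orderOf l = N ∧ Nat.card K = Nat.card F := by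
  classical
  have hpow : ∀ (n : ℕ), ∀ x ∈ X, c ((a ^ n) x) = l ^ n * c x := by
    intro n x hx
    induction n with
    | zero => simp
    | succ n ih => rw [pow_succ', MulAut.mul_apply, act _ (hX.pow n x hx), ih]; ring
  obtain ⟨u, hu, hu1⟩ := surj 1
  have h1 : c 1 = 0 := (ker 1 X.one_mem).2 Y.one_mem
  have hinv : ∀ x ∈ X, c x⁻¹ = - c x := fun x hx => by
    rw [eq_neg_iff_add_eq_zero, ← add _ (X.inv_mem hx) _ hx, inv_mul_cancel, h1]
  have huY : u ∉ Y := fun e => by simpa [hu1] using (ker u hu).2 e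
  have hord : orderOf l = N := by
    refine Nat.dvd_antisymm (orderOf_dvd_of_pow_eq_one ?_) ?_
    · have := hpow N u hu
      rw [hN, hu1, mul_one] at this
      rw [← this, ← hu1]
      rfl
    · by_contra hn
      refine huY (h.fpf_mod hY hn ((ker _ (X.mul_mem (X.inv_mem hu) (hX.pow _ u hu))).1 ?_))
      rw [add _ (X.inv_mem hu) _ (hX.pow _ u hu), hinv u hu, hpow _ u hu, pow_orderOf_eq_one]
      ring
  have h2 : (2 : K) = 0 := by
    have := (ker _ (X.mul_mem hu hu)).2 (hsq u hu)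
    rw [add u hu u hu, hu1] at this
    linear_combination this
  have : CharP K 2 := CharTwo.of_one_ne_zero_of_two_eq_zero one_ne_zero h2
  obtain ⟨n, hq, hnt⟩ := h.fw
  have hl : l ^ 2 ^ n = l := by
    rw [← Nat.sub_add_cancel (Nat.one_le_two_pow (n := n)), pow_succ,
      orderOf_dvd_iff_pow_eq_one.1 (hord ▸ hnt.dvd), one_mul]
  let W : Subgroup P :=
    { carrier := {x | x ∈ X ∧ c x ^ 2 ^ n = c x}
      one_mem' := ⟨X.one_mem, by simp [h1]⟩
      mul_mem' := by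
        rintro x y ⟨hx, hx'⟩ ⟨hy, hy'⟩
        exact ⟨X.mul_mem hx hy, by rw [add x hx y hy, add_pow_char_pow, hx', hy']⟩
      inv_mem' := by
        rintro x ⟨hx, hx'⟩
        exact ⟨X.inv_mem hx, by rw [hinv x hx, CharTwo.neg_eq, hx']⟩ }
  have hW : W = X := by
    refine (hmin W ?_ ?_ (fun x hx => hx.1)).resolve_left fun e => huY ?_
    · rintro x ⟨hx, hx'⟩
      exact ⟨hX x hx, by rw [act x hx, mul_pow, hx', hl]⟩
    · exact fun y hy => ⟨hYX hy, by simp [(ker y (hYX hy)).2 hy]⟩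
    · exact e ▸ (⟨hu, by simp [hu1]⟩ : u ∈ W)
  refine ⟨hord, h.fw.card_eq hord fun t => ?_⟩
  obtain ⟨x, hx, rfl⟩ := surj t
  rw [hq]
  exact (hW.ge hx).2

variable [Finite F]

/-- an invariant elementary abelian section without proper invariant subsections has
coordinates -/
theorem Sup.exists_coord (h : Sup a N F) (hN : a ^ N = 1)
    {X Y : Subgroup P} (hX : SInv a X) (hY : SInv a Y) (hYX : Y < X)
    (hn : ∀ x ∈ X, ∀ y ∈ Y, x * y * x⁻¹ ∈ Y) (hsq : ∀ x ∈ X, x * x ∈ Y)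
    (hmin : ∀ W, SInv a W → Y ≤ W → W ≤ X → W = Y ∨ W = X) : Nonempty (Crd a N F X Y) := by
  classical
  have : (Y.subgroupOf X).Normal := ⟨fun y hy x => hn x x.2 y hy⟩
  let π := QuotientGroup.mk' (Y.subgroupOf X)
  have hπ : ∀ x : X, π x = 1 ↔ (x : P) ∈ Y := fun x => QuotientGroup.eq_one_iff x
  have hsq' : ∀ v : X ⧸ Y.subgroupOf X, v * v = 1 := by
    intro v
    obtain ⟨x, rfl⟩ := QuotientGroup.mk'_surjective _ v
    rw [← map_mul]
    exact (hπ _).2 (hsq x x.2)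
  let _ : CommGroup (X ⧸ Y.subgroupOf X) :=
    { (inferInstance : Group (X ⧸ Y.subgroupOf X)) with
      mul_comm := fun u v => by
        rw [← inv_inj, mul_inv_rev, inv_eq_of_mul_eq_one_right (hsq' u),
          inv_eq_of_mul_eq_one_right (hsq' v), inv_eq_of_mul_eq_one_right (hsq' _)] }
  let r : X →* X := (a.toMonoidHom.comp X.subtype).codRestrict X (fun x => hX x x.2)
  let f : AddMonoid.End (Additive (X ⧸ Y.subgroupOf X)) :=
    MonoidHom.toAdditive (QuotientGroup.map _ _ r (fun y hy => hY y hy))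
  obtain ⟨u, hu, huY⟩ := SetLike.exists_of_lt hYX
  obtain ⟨K, _, _, e, -, he⟩ := CfsgLib.Perm.exists_field_coord {f} (by
      intro W hW
      have hW' : SInv a ((W.toSubgroup'.comap π).map X.subtype) := by
        rintro _ ⟨x, hx, rfl⟩
        exact ⟨r x, hW f rfl _ hx, rfl⟩
      rcases hmin _ hW' (fun y hy => ⟨⟨y, hYX.le hy⟩, by
        rw [SetLike.mem_coe, mem_comap, (hπ _).2 hy]; exact one_mem _, rfl⟩) (map_subtype_le _)
        with e | e
      · left
        rw [eq_bot_iff]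
        intro w hw
        obtain ⟨x, hx⟩ := QuotientGroup.mk'_surjective _ (Additive.toMul w)
        have : (x : P) ∈ Y := e ▸ ⟨x, by
          rw [SetLike.mem_coe, mem_comap]; change QuotientGroup.mk' _ x ∈ _; rw [hx]; exact hw, rfl⟩
        rw [AddSubgroup.mem_bot, ← toMul_eq_one, ← hx]
        exact (hπ x).2 this
      · right
        rw [eq_top_iff]
        intro w _
        obtain ⟨x, hx⟩ := QuotientGroup.mk'_surjective _ (Additive.toMul w)
        obtain ⟨y, hy, hxy⟩ := e.ge x.2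
        rw [Subtype.ext hxy, SetLike.mem_coe, mem_comap] at hy
        change QuotientGroup.mk' _ x ∈ _ at hy
        rw [hx] at hy
        exact hy)
    (by rintro _ rfl _ rfl; rfl) (v := Additive.ofMul (π ⟨u, hu⟩))
    (fun e => huY ((hπ _).1 (ofMul_eq_zero.1 e)))
  obtain ⟨l, hl⟩ := he f rfl
  let c : P → K := fun x => if hx : x ∈ X then e.symm (Additive.ofMul (π ⟨x, hx⟩)) else 0
  have hc : ∀ x (hx : x ∈ X), c x = e.symm (Additive.ofMul (π ⟨x, hx⟩)) := fun x hx => dif_pos hx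
  have add : ∀ x ∈ X, ∀ y ∈ X, c (x * y) = c x + c y := fun x hx y hy => by
    rw [hc _ (X.mul_mem hx hy), hc x hx, hc y hy, ← map_add, ← ofMul_mul, ← map_mul]
    rfl
  have ker : ∀ x ∈ X, c x = 0 ↔ x ∈ Y := fun x hx => by
    rw [hc x hx, map_eq_zero_iff _ e.symm.injective, ofMul_eq_zero, hπ]
  have surj : ∀ t, ∃ x ∈ X, c x = t := fun t => by
    obtain ⟨x, hx⟩ := QuotientGroup.mk'_surjective _ (Additive.toMul (e t))
    refine ⟨x, x.2, ?_⟩
    rw [hc x x.2, e.symm_apply_eq]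
    exact congrArg Additive.ofMul hx
  have act : ∀ x ∈ X, c (a x) = l * c x := fun x hx => by
    rw [hc _ (hX x hx), e.symm_apply_eq, ← hl, hc x hx, e.apply_symm_apply]
    rfl
  obtain ⟨hg, hK⟩ := h.coord_aux hN hX hY hYX.le hsq hmin c l add ker surj act
  have := Fintype.ofFinite F
  let σ : K ≃+* F := FiniteField.ringEquivOfCardEq (by
    rw [← Nat.card_eq_fintype_card, ← Nat.card_eq_fintype_card, hK])
  refine ⟨⟨fun x => σ (c x), σ l, hYX.le, hX, (orderOf_injective (σ : K →* F) σ.injective l).trans hg,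
    fun x hx y hy => by rw [add x hx y hy, map_add], fun x hx => by
      rw [map_eq_zero_iff _ σ.injective, ker x hx], fun t => ?_,
    fun x hx => by rw [act x hx, map_mul]⟩⟩
  obtain ⟨x, hx, hxt⟩ := surj (σ.symm t)
  exact ⟨x, hx, by simp [hxt]⟩

/-- existence of chief factors -/
theorem Sup.exists_chief (h : Sup a N F) (hF : a ^ N = 1) {A M : Subgroup P}
    (hA : A.Normal) (hN : M.Normal) (hAi : SInv a A) (hNi : SInv a M) (hAN : A ≤ M) (hn : ¬ M ≤ A) :
    ∃ C : Subgroup P, C ≤ M ∧ C.Normal ∧ (∀ x ∈ C, ∀ g, ⁅x, g⁆ ∈ A) ∧ Nonempty (Crd a N F C A) := by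
  obtain ⟨x, hx, hxA, h2, hc⟩ := exists_central_mod_pow_mem h.pg hn
  have hW : SInv a (M ⊓ cenSq A hA) ∧ A < M ⊓ cenSq A hA := by
    refine ⟨fun y hy => ⟨hNi y hy.1, fun g => ?_, ?_⟩, lt_of_le_of_ne (fun y hy => ⟨hAN hy, fun g => ?_,
      A.mul_mem hy hy⟩) fun e => hxA (e ▸ ⟨hx, hc, by rwa [← sq]⟩)⟩
    · obtain ⟨g, rfl⟩ := a.surjective g
      rw [← map_commutatorElement]
      exact hAi _ (hy.2.1 g)
    · rw [← map_mul]
      exact hAi _ hy.2.2
    · exact commutator_le_left A ⊤ (commutator_mem_commutator hy (mem_top g))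
  obtain ⟨C, hCW, hC⟩ := Finite.exists_le_minimal (p := fun C => SInv a C ∧ A < C) hW
  refine ⟨C, hCW.trans inf_le_left, ⟨fun y hy g => ?_⟩, fun y hy => (hCW hy).2.1,
    h.exists_coord hF hC.1.1 hAi hC.1.2 (fun y _ z hz => hA.conj_mem z hz y)
      (fun y hy => (hCW hy).2.2) fun W hW h1 h3 => or_iff_not_imp_left.2 fun e =>
        le_antisymm h3 (hC.2 ⟨hW, lt_of_le_of_ne h1 (Ne.symm e)⟩ h3)⟩
  have e : g * y * g⁻¹ = ⁅g, y⁆ * y := by group
  rw [e]
  exact C.mul_mem (hC.1.2.le (comm_swap ((hCW hy).2.1 g))) hy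

end CfsgLib.Suz2
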