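import Mathlib
import Cfsg.Agent.Lib.Suz2.SChief

/-! Higman's theorem for an automorphism acting on the involutions as a scalar of large order. -/

set_option autoImplicit false

namespace CfsgLib.Suz2

open Subgroup CfsgLib.PGroup CfsgLib.Suz2S
open scoped commutatorElement

variable {P : Type*} [Group P] {a : MulAut P} {N : ℕ} {F : Type*} [Field F]

theorem le_cenSq {A : Subgroup P} (hA : A.Normal) : A ≤ cenSq A hA := fun _ hy =>
  ⟨fun g => commutator_le_left A ⊤ (commutator_mem_commutator hy (mem_top g)), A.mul_mem hy hy⟩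

theorem sInv_cenSq {A : Subgroup P} (hA : A.Normal) (hAi : SInv a A) : SInv a (cenSq A hA) := by
  refine fun y hy => ⟨fun g => ?_, ?_⟩
  · obtain ⟨g, rfl⟩ := a.surjective g
    rw [← map_commutatorElement]
    exact hAi _ (hy.1 g)
  · rw [← map_mul]
    exact hAi _ hy.2

theorem normal_of_cenSq {A C : Subgroup P} (hA : A.Normal) (h1 : A ≤ C) (h2 : C ≤ cenSq A hA) :
    C.Normal := ⟨fun y hy g => by
  have e : g * y * g⁻¹ = ⁅g, y⁆ * y := by group
  rw [e]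
  exact C.mul_mem (h1 (comm_swap ((h2 hy).1 g))) hy⟩

theorem fix_of_odd (hP : IsPGroup 2 P) {b : MulAut P} (hb : Odd (orderOf b)) {x : P}
    (hx : b (x⁻¹ * b x) = x⁻¹ * b x) : b x = x := by
  have key : ∀ k : ℕ, (b ^ k) x = x * (x⁻¹ * b x) ^ k := by
    intro k
    induction k with
    | zero => simp
    | succ k ih => rw [pow_succ', MulAut.mul_apply, ih, map_mul, map_pow, hx, pow_succ', ← mul_assoc,
        mul_inv_cancel_left]
  have h1 := key (orderOf b)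
  rw [pow_orderOf_eq_one, MulAut.one_apply, left_eq_mul] at h1
  obtain ⟨k, hk⟩ := hP (x⁻¹ * b x)
  have h2 : orderOf (x⁻¹ * b x) ∣ 1 := by
    rw [← (Nat.Coprime.pow_right k hb.coprime_two_right).gcd_eq_one]
    exact Nat.dvd_gcd (orderOf_dvd_of_pow_eq_one h1) (orderOf_dvd_of_pow_eq_one hk)
  exact (inv_mul_eq_one.1 (orderOf_eq_one_iff.1 (Nat.dvd_one.1 h2))).symm

variable [Finite P] [Finite F] [CharP F 2]

theorem AbN.sq_mem_of_bot (h : Sup a N F) (ω : Crd a N F (Om P) ⊥) {A : Subgroup P} (hA : AbN a A)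
    (hmax : ∀ C, AbN a C → A ≤ C → C = A) (hs : Suz2.sqS A = ⊥) (x : P) : x * x ∈ A := by
  by_contra hx
  have := hA.nl
  have := normal_sqS (A := (⊤ : Subgroup P)) inferInstance
  obtain ⟨y, hy, hyA, h2, hc⟩ := exists_central_mod_pow_mem h.pg (M := A ⊔ Suz2.sqS ⊤) (N := A)
    (fun e => hx (e (mem_sup_right (sq_mem_sqS trivial))))
  have h3 : A ⊔ Suz2.sqS ⊤ ≤ commSub ⊥ inferInstance (cenSq A hA.nl) := by
    refine sup_le (fun y hy c _ => ?_) (sqS_le_iff.2 fun g _ c hc => ?_)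
    · exact commutatorElement_eq_one_iff_mul_comm.2 (mem_center_iff.1
        (h.cen y (mem_bot.1 (hs ▸ sq_mem_sqS hy))) c).symm
    · have h4 := comm_swap (hc.1 g)
      rw [comm_sq, ← hs]
      exact mul_mem (hA.comm_memS h ω g h4) (sq_mem_sqS h4)
  have hle : A ≤ (A ⊔ Suz2.sqS ⊤) ⊓ cenSq A hA.nl := le_inf le_sup_left (le_cenSq hA.nl)
  have h5 := hmax ((A ⊔ Suz2.sqS ⊤) ⊓ cenSq A hA.nl)
    ⟨fun u hu v hv => commutatorElement_eq_one_iff_mul_comm.1 (h3 hu.1 v hv.2),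
    normal_of_cenSq hA.nl hle inf_le_right,
    (hA.inv.sup (sInv_top a).sqS).inf (sInv_cenSq hA.nl hA.inv)⟩ hle
  exact hyA (h5.le ⟨hy, hc, by rwa [← sq]⟩)

theorem AbN.centralizer_le (h : Sup a N F) (ω : Crd a N F (Om P) ⊥) {A : Subgroup P}
    (hA : AbN a A) (hmax : ∀ C, AbN a C → A ≤ C → C = A) (hs : Suz2.sqS A ≠ ⊥) :
    centralizer (A : Set P) ≤ A := by
  by_contra hn
  have := hA.nl
  obtain ⟨y, hy, hyA, h2, hc⟩ := exists_central_mod_pow_mem h.pg hn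
  let D : Subgroup P := centralizer (A : Set P) ⊓ cenSq A hA.nl
  have hle : A ≤ D := le_inf (fun x hx => mem_centralizer_iff.2 fun g hg => hA.ab g hg x hx)
    (le_cenSq hA.nl)
  have hDi : SInv a D := by
    refine SInv.inf (fun x hx => mem_centralizer_iff.2 fun g hg => ?_) (sInv_cenSq hA.nl hA.inv)
    have h1 := hA.inv.pow (orderOf a - 1) g hg
    have h3 : a ((a ^ (orderOf a - 1)) g) = g := by
      rw [← MulAut.mul_apply, ← pow_succ', Nat.sub_add_cancel (orderOf_pos a), pow_orderOf_eq_one,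
        MulAut.one_apply]
    rw [← h3, ← map_mul, ← map_mul, mem_centralizer_iff.1 hx _ h1]
  have hyD : y ∈ D := ⟨hy, hc, by rwa [← sq]⟩
  have hcom : ∀ u ∈ D, ∀ x ∈ A, ⁅u, x⁆ = 1 := fun u hu x hx =>
    commutatorElement_eq_one_iff_mul_comm.2 (mem_centralizer_iff.1 hu.1 x hx).symm
  have hOm : ∀ u ∈ D, ∀ v ∈ D, ⁅u, v⁆ ∈ Om P := fun u hu v hv => by
    have h1 := comm_sq u v
    rw [← commutatorElement_inv, hcom v hv _ hu.2.2, hcom u hu _ (hu.2.1 v), inv_one, one_mul] at h1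
    exact h.mem_Om.2 h1.symm
  have hOA : Om P ≤ Suz2.sqS A := h.Om_le hA.inv.sqS hs
  obtain ⟨κ₁, hκ₁⟩ := hA.exists_coordS h ω (fun e => hs (eq_bot_iff.2 ((sqS_le A).trans e.le)))
  have hadd : ∀ u ∈ D, ∀ v ∈ D, κ₁.c (u * v * (u * v)) = κ₁.c (u * u) + κ₁.c (v * v) := by
    intro u hu v hv
    have e : u * v * (u * v) = u * u * (⁅u⁻¹, v⁆ * (v * v)) := by group
    have h1 := hOA (hOm _ (D.inv_mem hu) v hv)
    rw [e, κ₁.add _ hu.2.2 _ (A.mul_mem (sqS_le A h1) hv.2.2), κ₁.add _ (sqS_le A h1) _ hv.2.2,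
      κ₁.c_of_mem h1, zero_add]
  have hker : ∀ u ∈ D, κ₁.c (u * u) = 0 ↔ u ∈ A := fun u hu => by
    rw [κ₁.ker _ hu.2.2]
    exact ⟨fun e => hA.mem_of_commS h (fun e => hs (eq_bot_iff.2 ((sqS_le A).trans e.le))) e
      (fun x hx => by rw [hcom u hu x hx]; exact one_mem _), sq_mem_sqS⟩
  have hact : ∀ u ∈ D, κ₁.c (a u * a u) = κ₁.lam * κ₁.c (u * u) := fun u hu => by
    rw [← map_mul, κ₁.act _ hu.2.2]
  let U : AddSubgroup F :=
    { carrier := {t | ∃ u ∈ D, κ₁.c (u * u) = t}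
      zero_mem' := ⟨1, D.one_mem, by rw [mul_one, κ₁.c_one]⟩
      add_mem' := by
        rintro _ _ ⟨x, hx, rfl⟩ ⟨y, hy, rfl⟩
        exact ⟨x * y, D.mul_mem hx hy, hadd x hx y hy⟩
      neg_mem' := by
        rintro _ ⟨x, hx, rfl⟩
        exact ⟨x, hx, (CharTwo.neg_eq _).symm⟩ }
  let κ : Crd a N F D A :=
    { c := fun u => κ₁.c (u * u)
      lam := κ₁.lam
      le := hle
      inv := hDi
      ord := κ₁.ord
      add := hadd
      ker := hker
      surj := h.fw.irr κ₁.ord U (by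
        rintro _ ⟨x, hx, rfl⟩
        exact ⟨a x, hDi x hx, hact x hx⟩) ⟨y, hyD, rfl⟩ (fun e => hyA ((hker y hyD).1 e))
      act := hact }
  obtain ⟨Γ, hΓ, hΓw⟩ := comm_biaddS κ κ ω
    (fun g z hz => commutatorElement_eq_one_iff_mul_comm.2 (mem_center_iff.1 hz.1 g)) hOm
    (fun x hx y hy => comm_swap (N := ⊥) (hcom y hy x hx)) (fun x hx y hy => hcom x hx y hy)
  have hΓ0 := h.fw.alt_zero κ.ord (AddMonoidHom.id F) (z := ω.lam)
    (fun x => by rw [← hκ₁]; rfl) ⟨1, one_ne_zero⟩ Γ hΓw (by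
      obtain ⟨u, hu, e⟩ := κ.surj 1
      rw [← e, hΓ u hu u hu, commutatorElement_self, ω.c_one])
  have h5 := hmax D ⟨fun u hu v hv => commutatorElement_eq_one_iff_mul_comm.1 (mem_bot.1
    ((ω.ker _ (hOm u hu v hv)).1 (by rw [← hΓ u hu v hv, hΓ0]))),
    normal_of_cenSq hA.nl hle inf_le_right, hDi⟩ hle
  exact hyA (h5.le hyD)

theorem AbN.pow_fix (h : Sup a N F) (ω : Crd a N F (Om P) ⊥) {A : Subgroup P} (hA : AbN a A)
    {x : P} (hx : x ∈ A) : (a ^ N) x = x := by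
  obtain ⟨k, hk⟩ : ∃ k : ℕ, ∀ x ∈ A, x ^ 2 ^ k = 1 :=
    (exists_pow_two_pow h.pg).imp fun _ hk x _ => hk x
  induction k generalizing A x with
  | zero =>
    have hx1 : x = 1 := by simpa using hk x hx
    rw [hx1, map_one]
  | succ k ih =>
    by_cases hne : A = ⊥
    · rw [mem_bot.1 (hne.le hx), map_one]
    obtain ⟨κ, -⟩ := hA.exists_coordS h ω hne
    refine fix_of_odd h.pg (h.odd.of_dvd_nat (orderOf_pow_dvd N)) (ih hA.sqS
      (κ.inv_mul_mem hx (hA.inv.pow N x hx) ?_) fun y hy => ?_)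
    · rw [κ.c_pow N hx, orderOf_dvd_iff_pow_eq_one.1 (dvd_of_eq κ.ord), one_mul]
    · obtain ⟨x, hx, rfl⟩ := hA.mem_sqS.1 hy
      rw [← sq, ← pow_mul, ← pow_succ', hk x hx]

theorem AbN.pow_eq_one (h : Sup a N F) (ω : Crd a N F (Om P) ⊥) {A : Subgroup P}
    (hA : AbN a A) (hmax : ∀ C, AbN a C → A ≤ C → C = A) (hs : Suz2.sqS A ≠ ⊥) : a ^ N = 1 := by
  ext g
  refine fix_of_odd h.pg (h.odd.of_dvd_nat (orderOf_pow_dvd N)) (hA.pow_fix h ω
    (hA.centralizer_le h ω hmax hs (mem_centralizer_iff.2 fun x hx => ?_)))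
  have h1 := hA.pow_fix h ω (hA.nl.conj_mem x hx g)
  rw [map_mul, map_mul, map_inv, hA.pow_fix h ω hx] at h1
  calc x * (g⁻¹ * (a ^ N) g) = g⁻¹ * (g * x * g⁻¹) * (a ^ N) g := by group
    _ = g⁻¹ * (a ^ N) g * x := by rw [← h1]; group

/-- **Higman's theorem**, first part -/
theorem Sup.center_eq_and_sq (h : Sup a N F) (hnab : ∃ x y : P, x * y ≠ y * x) :
    center P = Om P ∧ ∀ x : P, x * x ∈ Om P := by
  obtain ⟨ω⟩ := h.om
  obtain ⟨A, hZA, hA, hmax⟩ := exists_maximal_ge (AbN a) (A := center P)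
    ⟨fun x hx y _ => (mem_center_iff.1 hx y).symm, inferInstance, sInv_center a⟩
  have hne : A ≠ ⊥ := fun e => h.Om_ne_bot (eq_bot_iff.2 (Om_le_center.trans (hZA.trans e.le)))
  have hnab' : ∀ C : Subgroup P, C.Normal → Crd a N F C A → ∃ x ∈ C, ∃ y ∈ C, x * y ≠ y * x := by
    intro C hC κ
    by_contra hc
    push Not at hc
    exact κ.not_le (hmax C ⟨hc, hC, κ.inv⟩ κ.le).le
  have hdi : ∀ C : Subgroup P, C.Normal → Crd a N F C A → sqS A ≠ ⊥ → ∀ u ∈ C, u * u ∈ sqS A := by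
    intro C hC κ hs
    by_contra hc
    push Not at hc
    exact hs (hA.case_twoS h ω hC κ (hnab' C hC κ) hc)
  have hbot : ∀ {X : Subgroup P}, sqS X = ⊥ → X ≤ Om P := fun e x hx =>
    h.mem_Om.2 (mem_bot.1 (e ▸ sq_mem_sqS hx))
  by_cases hs : sqS A = ⊥
  · exact ⟨le_antisymm (hZA.trans (hbot hs)) Om_le_center,
      fun x => hbot hs (hA.sq_mem_of_bot h ω hmax hs x)⟩
  have hF : a ^ N = 1 := hA.pow_eq_one h ω hmax hs
  obtain ⟨C₀, -, hC₀, -, ⟨κ₀⟩⟩ := h.exists_chief hF hA.nl inferInstance hA.inv (sInv_top a) le_top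
    (fun e => by obtain ⟨x, y, hxy⟩ := hnab; exact hxy (hA.ab x (e trivial) y (e trivial)))
  have h2 : sqS A ≤ Om P := hbot (hA.case_oneS h ω hne κ₀ (hdi C₀ hC₀ κ₀ hs))
  have hsqA : ∀ x, x * x ∈ A := by
    by_contra hc
    push Not at hc
    obtain ⟨x, hx⟩ := hc
    have := hA.nl
    have := normal_sqS (A := (⊤ : Subgroup P)) inferInstance
    obtain ⟨C, hCN, hC, -, ⟨κ⟩⟩ := h.exists_chief hF (M := A ⊔ sqS ⊤) hA.nl inferInstance hA.inv
      (hA.inv.sup (sInv_top a).sqS) le_sup_left (fun e => hx (e (mem_sup_right (sq_mem_sqS trivial))))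
    · have h3 : A ⊔ sqS ⊤ ≤ commSub _ hA.sqS.sqS.nl A := by
        refine sup_le (fun y hy c hc => ?_) (sqS_le_iff.2 fun g _ c hc => ?_)
        · rw [hA.comm_eq_one hy hc]
          exact one_mem _
        · have h4 := hA.comm_memS h ω g hc
          rw [comm_sq]
          exact mul_mem (hA.sqS.comm_memS h ω g h4) (sq_mem_sqS h4)
      exact κ.not_le fun u hu => hA.mem_of_commS h hne (hdi C hC κ hs u hu) (h3 (hCN hu))
  refine ⟨le_antisymm ?_ Om_le_center, fun x => h2 ?_⟩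
  · rcases hA.eq_or_leS h ω (sInv_center a) hZA with e | e
    · refine (κ₀.not_le fun u hu => hA.mem_of_commS h hne (hdi C₀ hC₀ κ₀ hs u hu) fun y hy => ?_).elim
      rw [commutatorElement_eq_one_iff_mul_comm.2 (mem_center_iff.1 (e.ge hy) u)]
      exact one_mem _
    · exact e.trans h2
  · have hcomm : ∀ x y : P, ⁅x, y⁆ ∈ A := fun x y => by
      have e : ⁅x, y⁆ = (x * x)⁻¹⁻¹ * (x⁻¹ * y * (x⁻¹ * y)) * (y * y)⁻¹ := by group
      rw [e, inv_inv]
      exact A.mul_mem (A.mul_mem (hsqA _) (hsqA _)) (A.inv_mem (hsqA _))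
    let s : Set P := {x | ∃ C : Subgroup P, C.Normal ∧ Nonempty (Crd a N F C A) ∧ x ∈ C}
    have hD : closure s = ⊤ := by
      obtain ⟨W, hW, hAW, h3, h4⟩ := exists_inv_compl_mod h.odd hA.nl hA.inv hsqA
        (D := closure s) (sInv_closure (by
          rintro x ⟨C, hC, ⟨κ⟩, hx⟩; exact ⟨C, hC, ⟨κ⟩, κ.inv x hx⟩))
      by_cases hWA : W ≤ A
      · rw [← h4, eq_comm, sup_eq_right]
        exact fun x hx => subset_closure ⟨C₀, hC₀, ⟨κ₀⟩, κ₀.le (hWA hx)⟩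
      · obtain ⟨C, hCW, hC, -, ⟨κ⟩⟩ := h.exists_chief hF hA.nl (M := W) ⟨fun y hy g => by
          have e : g * y * g⁻¹ = ⁅g, y⁆ * y := by group
          rw [e]
          exact W.mul_mem (hAW (hcomm g y)) hy⟩ hA.inv hW hAW hWA
        exact (κ.not_le fun x hx => h3 ⟨hCW hx, subset_closure ⟨C, hC, ⟨κ⟩, hx⟩⟩).elim
    have h3 : closure s ≤ commSub _ hA.sqS.nl s := (closure_le _).2 (by
      rintro x ⟨C, hC, ⟨κ⟩, hx⟩ y ⟨D, hD, ⟨κ'⟩, hy⟩
      exact hA.comm_mem_of_sqS h ω hs κ κ' (hdi C hC κ hs) (hdi D hD κ' hs)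
        (fun x _ y _ => hcomm x y) hx hy)
    have h4 : closure s ≤ cenSq _ hA.sqS.nl := (closure_le _).2 fun y hy =>
      ⟨fun g => comm_swap (h3 (hD ▸ mem_top g) y hy), by
        obtain ⟨C, hC, ⟨κ⟩, hy⟩ := hy
        exact hdi C hC κ hs y hy⟩
    exact (h4 (hD ▸ mem_top x)).2

end CfsgLib.Suz2
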