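import Mathlib
import Cfsg.Agent.Lib.Perm.MultiTransHuppert
import Cfsg.Agent.Lib.Suz2.CW
import Cfsg.Agent.Lib.Suz2.SMain

/-! A solvable group permuting the involutions transitively contains a scalar of large order. -/

set_option autoImplicit false

namespace CfsgLib.Suz2

open Subgroup CfsgLib.PGroup CfsgLib.Suz2S

theorem card_ringAut_dvd {F : Type*} [Field F] [Finite F] [CharP F 2] {n : ℕ}
    (hF : Nat.card F = 2 ^ n) : Nat.card (RingAut F) ∣ n := by
  have := Fintype.ofFinite F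
  let f : RingAut F := frobeniusEquiv F 2
  have hp : ∀ (j : ℕ) (x : F), (f ^ j) x = x ^ 2 ^ j := by
    intro j
    induction j with
    | zero => intro x; rw [pow_zero, pow_zero, pow_one]; rfl
    | succ j ih =>
      intro x
      rw [pow_succ', pow_succ, pow_mul, ← ih]
      rfl
  rw [← orderOf_eq_card_of_forall_mem_zpowers (g := f) fun σ => by
    obtain ⟨j, -, hj⟩ := exists_frob hF σ
    exact ⟨j, RingEquiv.ext fun x => by
      change (f ^ (j : ℤ)) x = _
      rw [zpow_natCast, hp, hj]⟩]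
  refine orderOf_dvd_of_pow_eq_one (RingEquiv.ext fun x => ?_)
  rw [hp, ← hF, Nat.card_eq_fintype_card, FiniteField.pow_card]
  rfl

theorem exists_scalar {G V F : Type*} [Group G] [Finite G] [AddCommGroup V] [Finite V] [Nontrivial V]
    [DistribMulAction G V] [FaithfulSMul G V] [Field F] [Finite F] [CharP F 2] {n : ℕ}
    (hF : Nat.card F = 2 ^ n) (htr : ∀ v w : V, v ≠ 0 → w ≠ 0 → ∃ g : G, g • v = w) (e : V ≃+ F)
    (hsemi : ∀ g : G, ∃ (c : F) (σ : F ≃+* F), ∀ v : V, e (g • v) = c * σ (e v)) :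
    ∃ (g : G) (z : F) (d : ℕ), (∀ v, e (g • v) = z * e v) ∧ orderOf z * d = 2 ^ n - 1 ∧ d ∣ n := by
  choose c σ h using hsemi
  have hc1 : ∀ g, e (g • e.symm 1) = c g := fun g => by simp [h]
  have hc0 : ∀ g, c g ≠ 0 := fun g => by
    rw [← hc1, e.map_ne_zero_iff, smul_ne_zero_iff_ne, e.symm.map_ne_zero_iff]
    exact one_ne_zero
  have hmul : ∀ g g', c (g * g') = c g * σ g (c g') := fun g g' => by
    rw [← hc1, mul_smul, h, hc1]
  let φ : G →* RingAut F := MonoidHom.mk' σ fun g g' => RingEquiv.ext fun x => by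
    have h1 := h (g * g') (e.symm x)
    rw [mul_smul, h, h, hmul, e.apply_symm_apply, map_mul, ← mul_assoc] at h1
    exact (mul_left_cancel₀ (by rw [← hmul]; exact hc0 _) h1).symm
  have hker : ∀ g : φ.ker, ∀ x, σ g x = x := fun g x => DFunLike.congr_fun g.2 x
  let ψ : φ.ker →* Fˣ := MonoidHom.mk' (fun g => Units.mk0 (c g) (hc0 g)) fun g g' =>
    Units.ext (by simp [hmul, hker])
  have hψ : Function.Injective ψ := fun g g' e' => by
    have e'' : c g = c g' := congrArg Units.val e'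
    exact Subtype.ext (FaithfulSMul.eq_of_smul_eq_smul (α := V) fun v => e.injective (by
      rw [h, h, hker, hker, e'']))
  have := isCyclic_of_injective ψ hψ
  obtain ⟨g, hg⟩ := IsCyclic.exists_ofOrder_eq_natCard (α := φ.ker)
  have h1 : orderOf (c g) = Nat.card φ.ker := by
    rw [← hg, ← orderOf_injective ψ hψ, ← orderOf_units]
    rfl
  obtain ⟨d, hd⟩ := card_dvd_of_injective ψ hψ
  rw [Nat.card_units, hF] at hd
  refine ⟨g, c g, d, fun v => by rw [h, hker], by rw [h1, hd], ?_⟩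
  have h2 := CfsgLib.Perm.card_sub_one_dvd (G := G) htr
  rw [Nat.card_congr e.toEquiv, hF, hd, ← φ.ker.card_mul_index, index_ker] at h2
  exact (Nat.dvd_of_mul_dvd_mul_left Nat.card_pos h2).trans
    ((card_subgroup_dvd_card _).trans (card_ringAut_dvd hF))

variable {P : Type*} [Group P] [Finite P]

theorem exists_sup (hP : IsPGroup 2 P)
    (two : ∃ x y : P, x ≠ y ∧ x ≠ 1 ∧ x * x = 1 ∧ y ≠ 1 ∧ y * y = 1) (Y : Subgroup (MulAut P))
    [Group.IsSolvable Y]
    (htr : ∀ x y : P, x ≠ 1 → x * x = 1 → y ≠ 1 → y * y = 1 → ∃ a ∈ Y, a x = y) :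
    ∃ (a : MulAut P) (N : ℕ) (F : Type) (_ : Field F) (_ : Finite F) (_ : CharP F 2), Sup a N F := by
  classical
  obtain ⟨x, y, hxy, hx1, hx2, hy1, hy2⟩ := two
  have hcen : ∀ x : P, x * x = 1 → x ∈ center P := fun u hu => by
    by_cases h1 : u = 1
    · rw [h1]; exact one_mem _
    obtain ⟨z, -, hz, ho⟩ := exists_mem_center_orderOf_eq hP ⊤
      (fun e => h1 (mem_bot.1 (e ▸ mem_top u)))
    have hz1 : z ≠ 1 := by rintro rfl; simp at ho
    obtain ⟨b, -, rfl⟩ := htr z u hz1 (by rw [← sq, ← ho, pow_orderOf_eq_one]) h1 hu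
    exact sInv_center b z hz
  have : (Om P).Characteristic := characteristic_iff_le_comap.2 fun b => sInv_Om b
  let _ : CommGroup (Om P) := cg2 fun v => Subtype.ext v.2.2
  let r : Y →* MulAut (Om P) := (MulAut.characteristic (Om P)).comp Y.subtype
  have : Group.IsSolvable r.range := Group.isSolvable_of_surjective r.rangeRestrict_surjective
  let _ : DistribMulAction r.range (Additive (Om P)) :=
    { smul := fun g v => Additive.ofMul (g.1 v.toMul)
      one_smul := fun v => rfl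
      mul_smul := fun g g' v => rfl
      smul_zero := fun g => map_one g.1
      smul_add := fun g u v => map_mul g.1 _ _ }
  have : FaithfulSMul r.range (Additive (Om P)) :=
    ⟨fun h => Subtype.ext (MulEquiv.ext fun v => h (Additive.ofMul v))⟩
  have : Nontrivial (Om P) := nontrivial_of_ne ⟨x, hcen x hx2, hx2⟩ 1
    (fun e => hx1 (congrArg Subtype.val e))
  have htr' : ∀ v w : Additive (Om P), v ≠ 0 → w ≠ 0 → ∃ g : r.range, g • v = w := by
    intro v w hv hw
    obtain ⟨b, hb, e⟩ := htr v.toMul w.toMul (fun e => hv (Subtype.ext e)) v.toMul.2.2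
      (fun e => hw (Subtype.ext e)) w.toMul.2.2
    exact ⟨⟨_, ⟨b, hb⟩, rfl⟩, Subtype.ext e⟩
  obtain ⟨n, hn⟩ := IsPGroup.iff_card.1 (hP.to_subgroup (Om P))
  have hn2 : 2 ≤ n := by
    have h3 : 2 < Nat.card (Om P) := by
      have := Fintype.ofFinite (Om P)
      rw [Nat.card_eq_fintype_card]
      exact Fintype.two_lt_card_iff.2 ⟨⟨x, hcen x hx2, hx2⟩, ⟨y, hcen y hy2, hy2⟩, 1,
        fun e => hxy (congrArg Subtype.val e), fun e => hx1 (congrArg Subtype.val e),
        fun e => hy1 (congrArg Subtype.val e)⟩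
    by_contra hlt
    have h5 : 2 ^ n ≤ 2 ^ 1 := Nat.pow_le_pow_right (by norm_num) (by omega)
    omega
  obtain ⟨F, _, _, e, he⟩ := (CfsgLib.Perm.huppert (G := r.range) (V := Additive (Om P)) htr'
    Nat.prime_two hn).resolve_right (by
      rintro ⟨A, E, -, -, h1, h2, -⟩
      exact absurd (h1.trans h2) (by norm_num))
  have h2 : (2 : F) = 0 := by
    have h3 : e.symm 1 + e.symm 1 = 0 := Subtype.ext (e.symm 1).toMul.2.2
    rw [← map_add, map_eq_zero_iff _ e.symm.injective] at h3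
    linear_combination h3
  have : CharP F 2 := CharTwo.of_one_ne_zero_of_two_eq_zero one_ne_zero h2
  have hF : Nat.card F = 2 ^ n := (Nat.card_congr e.toEquiv).symm.trans hn
  obtain ⟨⟨_, b, rfl⟩, z, d, hz, hd, hdn⟩ := exists_scalar hF htr' e he
  have hnt := nt_of hn2 hd hdn
  obtain ⟨k, m, hm, hkm⟩ := Nat.exists_eq_two_pow_mul_odd (orderOf_pos (b : MulAut P)).ne'
  let c : P → F := fun u => if hu : u ∈ Om P then e (Additive.ofMul ⟨u, hu⟩) else 0
  have hc : ∀ u (hu : u ∈ Om P), c u = e (Additive.ofMul ⟨u, hu⟩) := fun u hu => dif_pos hu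
  have hact : ∀ j : ℕ, ∀ u ∈ Om P, c (((b : MulAut P) ^ j) u) = z ^ j * c u := by
    intro j u hu
    induction j with
    | zero => simp
    | succ j ih =>
      have h3 := (sInv_Om (b : MulAut P)).pow j u hu
      rw [pow_succ', MulAut.mul_apply, pow_succ', mul_assoc, ← ih, hc _ h3, ← hz,
        hc _ (sInv_Om _ _ h3)]
      rfl
  refine ⟨(b : MulAut P) ^ 2 ^ k, orderOf z, F, inferInstance, inferInstance, inferInstance,
    hP, hcen, ?_, ⟨n, hF, hnt⟩, ⟨⟨c, z ^ 2 ^ k, bot_le, sInv_Om _,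
      (Nat.Coprime.pow_right k hnt.odd.coprime_two_right).orderOf_pow, fun u hu v hv => ?_,
      fun u hu => ?_, fun t => ⟨_, (e.symm t).toMul.2, ?_⟩, hact _⟩⟩⟩
  · refine hm.of_dvd_nat (orderOf_dvd_of_pow_eq_one ?_)
    rw [← pow_mul, ← hkm, pow_orderOf_eq_one]
  · rw [hc _ (mul_mem hu hv), hc u hu, hc v hv, ← map_add]
    rfl
  · rw [hc u hu, map_eq_zero_iff _ e.injective, ofMul_eq_zero, mem_bot, Subtype.ext_iff]
    rfl
  · rw [hc _ (e.symm t).toMul.2]
    exact e.apply_symm_apply t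

end CfsgLib.Suz2
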